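import Mathlib
import Groth.Prelude.Def_PolLaw

/-!
# Multiplicative homogeneous laws on a finite separable field extension

Over a `k̄`-algebra `S` the algebra `S ⊗[k] L` is the product of copies of `S` indexed by the
embeddings `L → k̄`; a multiplicative law homogeneous of degree `d` is then the product of the
`a`-th powers of the coordinates, with `d = [L : k] * a`.
-/

open scoped TensorProduct
open Polynomial

namespace Groth.Agent.FieldLaw

universe u

variable {k : Type u} [Field k]

/-- A multiplicative polynomial law to the base, homogeneous of degree `d` (over test rings). -/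
def Good {M : Type u} [CommRing M] [Algebra k M] (F : M →ₚₗ[k] k) (d : ℕ) : Prop :=
  (∀ (S : Type u) [CommRing S] [Algebra k S], F.toFun' S 1 = 1 ∧
    ∀ x y : S ⊗[k] M, F.toFun' S (x * y) = F.toFun' S x * F.toFun' S y) ∧
  ∀ (S : Type u) [CommRing S] [Algebra k S] (a : S) (z : S ⊗[k] M),
    F.toFun' S (a • z) = a ^ d • F.toFun' S z

section Val

variable {M : Type u} [CommRing M] [Algebra k M]

/-- The value of a law in the test ring. -/
noncomputable def val (F : M →ₚₗ[k] k) (S : Type u) [CommRing S] [Algebra k S] (z : S ⊗[k] M) : S :=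
  Algebra.TensorProduct.rid k S S (F.toFun' S z)

variable {F : M →ₚₗ[k] k} {d : ℕ} {S : Type u} [CommRing S] [Algebra k S]

theorem val_one (hF : Good F d) : val F S 1 = 1 := by
  rw [val, (hF.1 S).1, map_one]

theorem val_mul (hF : Good F d) (x y : S ⊗[k] M) : val F S (x * y) = val F S x * val F S y := by
  rw [val, (hF.1 S).2, map_mul]; rfl

theorem val_prod (hF : Good F d) {ι : Type*} (s : Finset ι) (f : ι → S ⊗[k] M) :
    val F S (∏ i ∈ s, f i) = ∏ i ∈ s, val F S (f i) := by
  classical
  induction s using Finset.induction with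
  | empty => simpa using val_one hF
  | insert a t ha ih => rw [Finset.prod_insert ha, Finset.prod_insert ha, val_mul hF, ih]

theorem val_pow (hF : Good F d) (x : S ⊗[k] M) (m : ℕ) : val F S (x ^ m) = val F S x ^ m := by
  induction m with
  | zero => simpa using val_one hF
  | succ m ih => rw [pow_succ, pow_succ, val_mul hF, ih]

theorem val_smul (hF : Good F d) (a : S) (z : S ⊗[k] M) : val F S (a • z) = a ^ d * val F S z := by
  rw [val, hF.2, map_smul, smul_eq_mul]; rfl

theorem val_map (F : M →ₚₗ[k] k) {S' : Type u} [CommRing S'] [Algebra k S'] (φ : S →ₐ[k] S') (z : S ⊗[k] M) :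
    val F S' (φ.toLinearMap.rTensor M z) = φ (val F S z) := by
  rw [val, val, ← PolynomialLaw.isCompat_apply']
  induction F.toFun' S z using TensorProduct.induction_on with
  | zero => simp
  | tmul s c => simp
  | add x y hx hy => simp only [map_add, hx, hy]

end Val

section Coordinates

variable (k) (L : Type u) [Field L] [Algebra k L] (Ω : Type u) [Field Ω] [Algebra k Ω]
  (S : Type u) [CommRing S] [Algebra k S] [Algebra Ω S] [IsScalarTower k Ω S]

/-- The coordinates of `S ⊗ L` along the embeddings. -/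
noncomputable def phi : S ⊗[k] L →ₐ[S] ((L →ₐ[k] Ω) → S) :=
  Algebra.TensorProduct.lift (Algebra.ofId S ((L →ₐ[k] Ω) → S))
    (AlgHom.pi fun σ : L →ₐ[k] Ω => (IsScalarTower.toAlgHom k Ω S).comp σ)
    (fun _ _ => Commute.all _ _)

variable {k L Ω S}

@[simp] theorem phi_tmul (s : S) (l : L) (σ : L →ₐ[k] Ω) :
    phi k L Ω S (s ⊗ₜ[k] l) σ = s * algebraMap Ω S (σ l) := rfl

theorem phi_map {S' : Type u} [CommRing S'] [Algebra k S'] [Algebra Ω S'] [IsScalarTower k Ω S']
    (φ : S →ₐ[k] S') (hφ : ∀ c : Ω, φ (algebraMap Ω S c) = algebraMap Ω S' c) (z : S ⊗[k] L)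
    (σ : L →ₐ[k] Ω) : phi k L Ω S' (φ.toLinearMap.rTensor L z) σ = φ (phi k L Ω S z σ) := by
  induction z using TensorProduct.induction_on with
  | zero => simp
  | tmul s c => simp [hφ]
  | add x y hx hy => simp only [map_add, Pi.add_apply, hx, hy]

variable [IsAlgClosed Ω] [FiniteDimensional k L] [Algebra.IsSeparable k L]

variable (k L) in
/-- A basis together with its dual for the trace form. -/
noncomputable def dualB : Module.Basis (Fin (Module.finrank k L)) k L :=
  (Algebra.traceForm k L).dualBasis (traceForm_nondegenerate k L) (Module.finBasis k L)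

variable (S) in
/-- The idempotent of an embedding. -/
noncomputable def eIdem (σ : L →ₐ[k] Ω) : S ⊗[k] L :=
  ∑ j, algebraMap Ω S (σ (dualB k L j)) ⊗ₜ[k] Module.finBasis k L j

theorem sum_embeddings_mul (x y : L) :
    ∑ σ : L →ₐ[k] Ω, σ x * σ y = algebraMap k Ω (Algebra.trace k L (x * y)) := by
  rw [trace_eq_sum_embeddings]
  exact Finset.sum_congr rfl fun σ _ => (map_mul σ x y).symm

theorem trace_dualB (i j : Fin (Module.finrank k L)) :
    Algebra.trace k L (dualB k L i * Module.finBasis k L j) = if j = i then 1 else 0 := by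
  rw [← Algebra.traceForm_apply]
  exact LinearMap.BilinForm.apply_dualBasis_left _ _ _ _

theorem sum_dual_mul [DecidableEq (L →ₐ[k] Ω)] (σ τ : L →ₐ[k] Ω) :
    ∑ j, σ (dualB k L j) * τ (Module.finBasis k L j) = if σ = τ then 1 else 0 := by
  classical
  obtain ⟨e⟩ : Nonempty (Fin (Module.finrank k L) ≃ (L →ₐ[k] Ω)) :=
    ⟨(Fintype.equivFinOfCardEq (AlgHom.card k L Ω)).symm⟩
  let A : Matrix (Fin (Module.finrank k L)) (Fin (Module.finrank k L)) Ω :=
    Matrix.of fun i j => e i (Module.finBasis k L j)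
  let B : Matrix (Fin (Module.finrank k L)) (Fin (Module.finrank k L)) Ω :=
    Matrix.of fun i j => e i (dualB k L j)
  have h1 : B.transpose * A = 1 := by
    ext i j
    simp only [Matrix.mul_apply, Matrix.transpose_apply, A, B, Matrix.of_apply]
    rw [e.sum_comp fun σ : L →ₐ[k] Ω => σ (dualB k L i) * σ (Module.finBasis k L j), sum_embeddings_mul,
      trace_dualB, Matrix.one_apply]
    simp [eq_comm, apply_ite (algebraMap k Ω)]
  have h2 := (Matrix.ext_iff.2 (mul_eq_one_comm.1 h1)) (e.symm τ) (e.symm σ)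
  simp only [Matrix.mul_apply, Matrix.transpose_apply, A, B, Matrix.of_apply, e.apply_symm_apply,
    Matrix.one_apply, e.symm.injective.eq_iff] at h2
  rw [Finset.sum_congr rfl fun j _ => mul_comm (σ (dualB k L j)) (τ (Module.finBasis k L j)), h2]
  simp [eq_comm]

theorem phi_eIdem [DecidableEq (L →ₐ[k] Ω)] (σ τ : L →ₐ[k] Ω) :
    phi k L Ω S (eIdem S σ) τ = if σ = τ then 1 else 0 := by
  rw [eIdem, map_sum, Finset.sum_apply]
  simp only [phi_tmul, ← map_mul (algebraMap Ω S)]
  rw [← map_sum, sum_dual_mul]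
  simp [apply_ite (algebraMap Ω S)]

theorem sum_phi_smul_eIdem (z : S ⊗[k] L) : ∑ σ, phi k L Ω S z σ • eIdem S σ = z := by
  classical
  have key : ∀ l : L, ∑ σ, algebraMap Ω S (σ l) • eIdem S σ = (1 : S) ⊗ₜ[k] l := fun l => by
    simp only [eIdem, Finset.smul_sum, TensorProduct.smul_tmul', smul_eq_mul, ← map_mul (algebraMap Ω S)]
    rw [Finset.sum_comm]
    simp only [← TensorProduct.sum_tmul, ← map_sum, sum_embeddings_mul]
    have hl : l = ∑ j, Algebra.trace k L (l * dualB k L j) • Module.finBasis k L j := by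
      conv_lhs => rw [← (Module.finBasis k L).sum_repr l]
      refine Finset.sum_congr rfl fun j _ => ?_
      congr 1
      conv_rhs => rw [← (Module.finBasis k L).sum_repr l, Finset.sum_mul, map_sum]
      simp only [smul_mul_assoc, map_smul, smul_eq_mul]
      rw [Finset.sum_eq_single j]
      · rw [mul_comm ((Module.finBasis k L) j), trace_dualB, if_pos rfl, mul_one]
      · intro i _ hne
        rw [mul_comm ((Module.finBasis k L) i), trace_dualB, if_neg hne, mul_zero]
      · simp
    conv_rhs => rw [hl, TensorProduct.tmul_sum]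
    refine Finset.sum_congr rfl fun j _ => ?_
    rw [← IsScalarTower.algebraMap_apply, TensorProduct.tmul_smul, TensorProduct.smul_tmul',
      ← Algebra.algebraMap_eq_smul_one]
  induction z using TensorProduct.induction_on with
  | zero => simp
  | tmul s l =>
    simp only [phi_tmul, mul_smul]
    rw [← Finset.smul_sum, key, TensorProduct.smul_tmul', smul_eq_mul, mul_one]
  | add x y hx hy => simp only [map_add, Pi.add_apply, add_smul, Finset.sum_add_distrib, hx, hy]

theorem phi_injective : Function.Injective (phi k L Ω S) := fun x y h => by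
  rw [← sum_phi_smul_eIdem (Ω := Ω) x, ← sum_phi_smul_eIdem (Ω := Ω) y, h]

variable (S) in
/-- The element with coordinate `t` at `σ` and `1` elsewhere. -/
noncomputable def axis (σ : L →ₐ[k] Ω) (t : S) : S ⊗[k] L := 1 + (t - 1) • eIdem S σ

theorem phi_axis [DecidableEq (L →ₐ[k] Ω)] (σ τ : L →ₐ[k] Ω) (t : S) :
    phi k L Ω S (axis S σ t) τ = if σ = τ then t else 1 := by
  rw [axis, map_add, map_smul, map_one, Pi.add_apply, Pi.smul_apply, phi_eIdem]
  split_ifs <;> simp

theorem axis_one (σ : L →ₐ[k] Ω) : axis S σ (1 : S) = 1 := by simp [axis]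

theorem axis_mul (σ : L →ₐ[k] Ω) (t u : S) : axis S σ (t * u) = axis S σ t * axis S σ u := by
  classical
  apply phi_injective (Ω := Ω)
  funext τ
  rw [map_mul, Pi.mul_apply, phi_axis, phi_axis, phi_axis]
  split_ifs <;> simp

theorem prod_axis (z : S ⊗[k] L) : ∏ σ, axis S σ (phi k L Ω S z σ) = z := by
  classical
  apply phi_injective (Ω := Ω)
  funext τ
  rw [map_prod, Finset.prod_apply]
  simp only [phi_axis]
  rw [Finset.prod_eq_single τ] <;> simp +contextual

theorem axis_map {S' : Type u} [CommRing S'] [Algebra k S'] [Algebra Ω S'] [IsScalarTower k Ω S']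
    (φ : S →ₐ[k] S') (τ : Ω →ₐ[k] Ω) (hφ : ∀ c : Ω, φ (algebraMap Ω S c) = algebraMap Ω S' (τ c))
    (σ : L →ₐ[k] Ω) (t : S) :
    φ.toLinearMap.rTensor L (axis S σ t) = axis S' (τ.comp σ) (φ t) := by
  simp [axis, eIdem, map_sum, hφ, Algebra.TensorProduct.one_def, Finset.smul_sum, TensorProduct.smul_tmul',
    LinearMap.rTensor_tmul]

end Coordinates

section Classify

variable {L : Type u} [Field L] [Algebra k L] [FiniteDimensional k L] [Algebra.IsSeparable k L]
  (Ω : Type u) [Field Ω] [Algebra k Ω] [IsAlgClosed Ω] [Algebra.IsAlgebraic k Ω]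

theorem exists_comp_eq (σ σ' : L →ₐ[k] Ω) : ∃ τ : Ω →ₐ[k] Ω, τ.comp σ = σ' := by
  let e : L ≃ₐ[k] σ.fieldRange := AlgEquiv.ofInjectiveField σ
  haveI : Algebra.IsAlgebraic σ.fieldRange Ω := Algebra.IsAlgebraic.tower_top (K := k) σ.fieldRange
  obtain ⟨τ, hτ⟩ := IsAlgClosed.surjective_domRestrict_of_isAlgebraic (K := k) (L := σ.fieldRange) (E := Ω)
    (σ'.comp e.symm.toAlgHom)
  refine ⟨τ, AlgHom.ext fun l => ?_⟩
  have h := DFunLike.congr_fun hτ (e l)
  change τ (e l : Ω) = σ' (e.symm (e l)) at h
  rw [e.symm_apply_apply] at h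
  exact h

/-- A multiplicative law on a finite separable extension is a power of the norm. -/
theorem exists_formula {G : L →ₚₗ[k] k} {d : ℕ} (hG : Good G d) :
    ∃ a : ℕ, d = Module.finrank k L * a ∧
      ∀ (S : Type u) [CommRing S] [Algebra k S] [Algebra Ω S] [IsScalarTower k Ω S] (w : S ⊗[k] L),
        val G S w = ∏ σ, (phi k L Ω S w σ) ^ a := by
  classical
  let P : (L →ₐ[k] Ω) → (Polynomial Ω) := fun σ => val G (Polynomial Ω) (axis (Polynomial Ω) σ X)
  have hnat : ∀ (S : Type u) [CommRing S] [Algebra k S] [Algebra Ω S] [IsScalarTower k Ω S] σ (t : S),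
      val G S (axis S σ t) = aeval t (P σ) := fun S _ _ _ _ σ t => by
    have h := val_map G ((aeval t).restrictScalars k) (axis (Polynomial Ω) σ (X : (Polynomial Ω)))
    have h2 := axis_map (S := (Polynomial Ω)) (S' := S) ((aeval t).restrictScalars k) (AlgHom.id k Ω)
      (fun c => (aeval t).commutes c) σ X
    rw [h2] at h
    simpa [P] using h
  have hmul : ∀ σ (c : Ω), (P σ).comp (C c * X) = C ((P σ).eval c) * P σ := fun σ c => by
    have h := hnat (Polynomial Ω) σ (C c * X)
    rw [axis_mul, val_mul hG, hnat (Polynomial Ω) σ (C c), hnat (Polynomial Ω) σ X, aeval_X_left_apply] at h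
    rw [comp_eq_aeval, ← h, ← Polynomial.algebraMap_eq, aeval_algebraMap_apply, coe_aeval_eq_eval]
  have hone : ∀ σ, (P σ).eval 1 = 1 := fun σ => by
    have h := hnat Ω σ 1
    rw [axis_one, val_one hG, coe_aeval_eq_eval] at h
    exact h.symm
  have hmon : ∀ σ, ∃ a, P σ = X ^ a := fun σ => by
    set a := (P σ).natDegree with ha
    have hne : P σ ≠ 0 := fun h => by simpa [h] using hone σ
    have hla : (P σ).coeff a ≠ 0 := by simpa [ha] using hne
    have hz : ∀ i, i ≠ a → (P σ).coeff i = 0 := fun i hi => by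
      by_contra hci
      have hc : ∀ c : Ω, c ^ i = c ^ a := fun c => by
        have e1 := congrArg (fun q => q.coeff i) (hmul σ c)
        have e2 := congrArg (fun q => q.coeff a) (hmul σ c)
        simp only [comp_C_mul_X_coeff, coeff_C_mul] at e1 e2
        rw [mul_left_cancel₀ hci (e1.trans (mul_comm _ _)), mul_left_cancel₀ hla (e2.trans (mul_comm _ _))]
      have hX : (X ^ i : (Polynomial Ω)) = X ^ a := Polynomial.funext fun c => by simpa using hc c
      exact hi (by simpa using congrArg natDegree hX)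
    have hP : P σ = C ((P σ).coeff a) * X ^ a := Polynomial.ext fun i => by
      rw [coeff_C_mul_X_pow]
      split_ifs with h
      · rw [h]
      · exact hz i h
    refine ⟨a, ?_⟩
    have h1 := hone σ
    rw [hP] at h1
    simp at h1
    rw [hP, h1, map_one, one_mul]
  choose a ha using hmon
  have hconst : ∀ σ σ', a σ' = a σ := fun σ σ' => by
    obtain ⟨τ, hτ⟩ := exists_comp_eq Ω σ σ'
    have h := val_map G (Polynomial.mapAlgHom τ) (axis (Polynomial Ω) σ (X : (Polynomial Ω)))
    rw [axis_map (Polynomial.mapAlgHom τ) τ (fun c => by simp), hτ, hnat, hnat, ha, ha] at h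
    simpa using congrArg natDegree h
  obtain ⟨σ₀⟩ : Nonempty (L →ₐ[k] Ω) := ⟨IsAlgClosed.lift⟩
  have hform : ∀ (S : Type u) [CommRing S] [Algebra k S] [Algebra Ω S] [IsScalarTower k Ω S] (w : S ⊗[k] L),
      val G S w = ∏ σ, (phi k L Ω S w σ) ^ a σ₀ := fun S _ _ _ _ w => by
    conv_lhs => rw [← prod_axis (Ω := Ω) w, val_prod hG]
    refine Finset.prod_congr rfl fun σ _ => ?_
    rw [hnat, ha, hconst σ₀ σ, map_pow, aeval_X]
  refine ⟨a σ₀, ?_, hform⟩
  have h := hform (Polynomial Ω) ((X : (Polynomial Ω)) • 1)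
  rw [val_smul hG, val_one hG, mul_one, map_smul, map_one] at h
  simp only [Pi.smul_apply, Pi.one_apply, smul_eq_mul, mul_one, Finset.prod_const, Finset.card_univ,
    AlgHom.card, ← pow_mul] at h
  have := congrArg natDegree h
  rw [natDegree_X_pow, natDegree_X_pow] at this
  rw [this, mul_comm]

end Classify

end Groth.Agent.FieldLaw
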