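import Mathlib
import Groth.Agent.FieldLaw.Separable

/-!
# Multiplicative laws and the exponent of inseparability
-/

open scoped TensorProduct

namespace Groth.Agent.FieldLaw

universe u

variable {k : Type u} [Field k] (q : ℕ) [ExpChar k q]

/-- Additivity of the `q ^ m`-th power in any semiring over `k`. -/
theorem add_pow_q {R : Type*} [CommSemiring R] [Algebra k R] (m : ℕ) (x y : R) :
    (x + y) ^ q ^ m = x ^ q ^ m + y ^ q ^ m := by
  cases ‹ExpChar k q› with
  | zero => simp
  | prime hp =>
    obtain ⟨r, hr⟩ := exists_add_pow_prime_pow_eq hp x y m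
    have h0 : (q : R) = 0 := by
      rw [← map_natCast (algebraMap k R), CharP.cast_eq_zero k q, map_zero]
    rw [hr, h0]; simp

theorem sum_pow_q {R : Type*} [CommSemiring R] [Algebra k R] (m : ℕ) {ι : Type*} (s : Finset ι) (f : ι → R) :
    (∑ i ∈ s, f i) ^ q ^ m = ∑ i ∈ s, f i ^ q ^ m := by
  classical
  induction s using Finset.induction with
  | empty => simp [zero_pow (pow_ne_zero m (expChar_pos k q).ne')]
  | insert a t ha ih => rw [Finset.sum_insert ha, Finset.sum_insert ha, add_pow_q (k := k) q, ih]

variable {K : Type u} [Field K] [Algebra k K] [FiniteDimensional k K]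

/-- The exponent is a power of the exponential characteristic. -/
theorem exists_exponent_eq_pow {e : ℕ} (he : 0 < e) (hexp : ∀ x : K, x ^ e ∈ separableClosure k K)
    (hmin : ∀ n : ℕ, 0 < n → (∀ x : K, x ^ n ∈ separableClosure k K) → e ≤ n) : ∃ m, e = q ^ m := by
  haveI : ExpChar (separableClosure k K) q := expChar_of_injective_algebraMap (algebraMap k _).injective q
  haveI : ExpChar K q := expChar_of_injective_algebraMap (algebraMap k _).injective q
  obtain ⟨r, hr⟩ : ∃ r, ∀ x : K, x ^ q ^ r ∈ separableClosure k K := by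
    choose n hn using fun x : K => IsPurelyInseparable.pow_mem (separableClosure k K) q x
    let b := Module.finBasis k K
    refine ⟨Finset.univ.sup fun i => n (b i), fun x => ?_⟩
    rw [← b.sum_repr x, sum_pow_q (k := k) q]
    refine sum_mem fun i _ => ?_
    rw [smul_pow, Algebra.smul_def]
    refine mul_mem (IntermediateField.algebraMap_mem _ _) ?_
    obtain ⟨c, hc⟩ := hn (b i)
    obtain ⟨t, ht⟩ := Nat.le.dest (Finset.le_sup (f := fun i => n (b i)) (Finset.mem_univ i))
    rw [← ht, pow_add, pow_mul, ← hc]
    exact pow_mem c.2 _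
  have hdvd : e ∣ q ^ r := by
    refine Nat.dvd_of_mod_eq_zero ?_
    by_contra hne
    refine absurd (hmin _ (Nat.pos_of_ne_zero hne) fun x => ?_) (not_le.2 (Nat.mod_lt _ he))
    rcases eq_or_ne x 0 with rfl | hx
    · rw [zero_pow hne]; exact zero_mem _
    have h := hr x
    rw [← Nat.mod_add_div (q ^ r) e, pow_add, pow_mul] at h
    have h2 := mul_mem h (inv_mem (pow_mem (hexp x) (q ^ r / e)))
    rwa [mul_inv_cancel_right₀ (pow_ne_zero _ (pow_ne_zero _ hx))] at h2
  rcases expChar_is_prime_or_one k q with hp | hp
  · obtain ⟨m, _, hm⟩ := (Nat.dvd_prime_pow hp).1 hdvd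
    exact ⟨m, hm⟩
  · exact ⟨0, by simpa [hp] using hdvd⟩

section Psi

variable (L : IntermediateField k K) {m : ℕ} (hL : ∀ x : K, x ^ q ^ m ∈ L)
  (S : Type u) [CommSemiring S] [Algebra k S]

/-- The `q ^ m`-th power, landing in `S ⊗ L`. -/
noncomputable def psi : S ⊗[k] K →+ S ⊗[k] L :=
  TensorProduct.liftAddHom
    { toFun := fun s =>
        { toFun := fun x => (s ^ q ^ m) ⊗ₜ[k] (⟨x ^ q ^ m, hL x⟩ : L)
          map_zero' := by
            have : (⟨(0 : K) ^ q ^ m, hL 0⟩ : L) = 0 :=
              Subtype.ext (zero_pow (pow_ne_zero m (expChar_pos k q).ne'))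
            rw [this, TensorProduct.tmul_zero]
          map_add' := fun x y => by
            rw [← TensorProduct.tmul_add]
            congr 1
            exact Subtype.ext (add_pow_q (k := k) q m x y) }
      map_zero' := by
        ext x
        simp [zero_pow (pow_ne_zero m (expChar_pos k q).ne')]
      map_add' := fun s t => by
        ext x
        simp [add_pow_q (k := k) q m s t, TensorProduct.add_tmul] }
    (fun r s x => by
      show ((r • s) ^ q ^ m) ⊗ₜ[k] (⟨x ^ q ^ m, hL x⟩ : L) = (s ^ q ^ m) ⊗ₜ[k] (⟨(r • x) ^ q ^ m, hL _⟩ : L)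
      have : (⟨(r • x) ^ q ^ m, hL _⟩ : L) = r ^ q ^ m • (⟨x ^ q ^ m, hL x⟩ : L) :=
        Subtype.ext (smul_pow r x _)
      rw [this, smul_pow, TensorProduct.smul_tmul])

theorem psi_tmul (s : S) (x : K) :
    psi q L hL S (s ⊗ₜ[k] x) = (s ^ q ^ m) ⊗ₜ[k] (⟨x ^ q ^ m, hL x⟩ : L) := rfl

theorem incl_psi (z : S ⊗[k] K) :
    L.val.toLinearMap.lTensor S (psi q L hL S z) = z ^ q ^ m := by
  induction z using TensorProduct.induction_on with
  | zero => simp [zero_pow (pow_ne_zero m (expChar_pos k q).ne')]
  | tmul s x => simp [psi_tmul, Algebra.TensorProduct.tmul_pow]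
  | add x y hx hy => rw [map_add, map_add, hx, hy, add_pow_q (k := k) q]

theorem psi_one : psi q L hL S 1 = 1 := by
  rw [Algebra.TensorProduct.one_def, psi_tmul, one_pow]
  congr 1
  exact Subtype.ext (one_pow _)

theorem psi_mul (x y : S ⊗[k] K) : psi q L hL S (x * y) = psi q L hL S x * psi q L hL S y := by
  induction x using TensorProduct.induction_on with
  | zero => simp
  | add x z hx hz => simp only [add_mul, map_add, hx, hz]
  | tmul s a =>
    induction y using TensorProduct.induction_on with
    | zero => simp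
    | add y z hy hz => simp only [mul_add, map_add, hy, hz]
    | tmul t b =>
      rw [Algebra.TensorProduct.tmul_mul_tmul, psi_tmul, psi_tmul, psi_tmul, Algebra.TensorProduct.tmul_mul_tmul,
        mul_pow]
      congr 1
      exact Subtype.ext (mul_pow a b _)

theorem psi_smul (a : S) (z : S ⊗[k] K) : psi q L hL S (a • z) = a ^ q ^ m • psi q L hL S z := by
  induction z using TensorProduct.induction_on with
  | zero => simp
  | add x y hx hy => simp only [smul_add, map_add, hx, hy]
  | tmul s x => rw [TensorProduct.smul_tmul', psi_tmul, psi_tmul, TensorProduct.smul_tmul', smul_eq_mul,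
      smul_eq_mul, mul_pow]

theorem psi_compat {S' : Type u} [CommSemiring S'] [Algebra k S'] (φ : S →ₐ[k] S') (z : S ⊗[k] K) :
    φ.toLinearMap.rTensor L (psi q L hL S z) = psi q L hL S' (φ.toLinearMap.rTensor K z) := by
  induction z using TensorProduct.induction_on with
  | zero => simp
  | add x y hx hy => simp only [map_add, hx, hy]
  | tmul s x => simp [psi_tmul]

end Psi

/-- The descent of a `q`-th power through the trace. -/
theorem exists_pow_eq_of_trace {L : Type u} [Field L] [Algebra k L] [FiniteDimensional k L]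
    [Algebra.IsSeparable k L] (n : ℕ) {s : L}
    (h : ∀ y : L, ∃ c : k, Algebra.trace k L (s * y ^ q ^ n) = c ^ q) :
    ∃ u : L, u ^ q = s := by
  haveI : ExpChar L q := expChar_of_injective_algebraMap (algebraMap k L).injective q
  -- first: `h` holds for all `q`-th powers
  have h1 : ∀ y : L, ∃ c : k, Algebra.trace k L (s * y ^ q) = c ^ q := fun y => by
    have hy : y ∈ Submodule.span k (Set.range fun i => (Module.finBasis k L i) ^ q ^ n) := by
      rw [Field.span_map_pow_expChar_pow_eq_top_of_isSeparable q n (Module.finBasis k L).span_eq]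
      trivial
    induction hy using Submodule.span_induction with
    | mem y hy =>
      obtain ⟨i, rfl⟩ := hy
      obtain ⟨c, hc⟩ := h ((Module.finBasis k L i) ^ q)
      exact ⟨c, by rw [← hc]; ring_nf⟩
    | zero => exact ⟨0, by simp [zero_pow (expChar_pos k q).ne']⟩
    | add a b _ _ ha hb =>
      obtain ⟨c, hc⟩ := ha
      obtain ⟨c', hc'⟩ := hb
      refine ⟨c + c', ?_⟩
      rw [add_pow_expChar, mul_add, map_add, hc, hc', add_pow_expChar]
    | smul r a _ ha =>
      obtain ⟨c, hc⟩ := ha
      refine ⟨r * c, ?_⟩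
      rw [smul_pow, mul_smul_comm, map_smul, hc, smul_eq_mul, mul_pow]
  choose φ hφ using h1
  let f : Module.Dual k L :=
    { toFun := φ
      map_add' := fun a b => frobenius_inj k q (by
        simp only [frobenius_def, add_pow_expChar, ← hφ, mul_add, map_add])
      map_smul' := fun r a => frobenius_inj k q (by
        simp only [frobenius_def, RingHom.id_apply, smul_eq_mul, mul_pow, ← hφ, smul_pow, mul_smul_comm, map_smul]) }
  let hnd := traceForm_nondegenerate k L
  refine ⟨((Algebra.traceForm k L).toDual hnd).symm f, ?_⟩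
  set u := ((Algebra.traceForm k L).toDual hnd).symm f with hu
  have hfrob : ∀ x : L, Algebra.trace k L (x ^ q) = Algebra.trace k L x ^ q := fun x => by
    let Ω := AlgebraicClosure k
    haveI : ExpChar Ω q := expChar_of_injective_algebraMap (algebraMap k Ω).injective q
    refine (algebraMap k Ω).injective ?_
    rw [map_pow (algebraMap k Ω), trace_eq_sum_embeddings, trace_eq_sum_embeddings, sum_pow_char]
    exact Finset.sum_congr rfl fun σ _ => map_pow σ x q
  refine sub_eq_zero.1 (hnd.1 _ fun v => ?_)
  have hv : v ∈ Submodule.span k (Set.range fun i => (Module.finBasis k L i) ^ q) := by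
    have := Field.span_map_pow_expChar_pow_eq_top_of_isSeparable q 1 (Module.finBasis k L).span_eq
    simp only [pow_one] at this
    rw [this]; trivial
  induction hv using Submodule.span_induction with
  | mem v hv =>
    obtain ⟨i, rfl⟩ := hv
    rw [Algebra.traceForm_apply, sub_mul, map_sub, ← mul_pow, hfrob, ← Algebra.traceForm_apply,
      hu, LinearMap.BilinForm.apply_toDual_symm_apply]
    rw [hφ]; exact sub_self _
  | zero => simp
  | add a b _ _ ha hb => rw [map_add, ha, hb, add_zero]
  | smul r a _ ha => rw [map_smul, ha, smul_zero]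

end Groth.Agent.FieldLaw
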