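import Mathlib
import Groth.Agent.FieldLaw.Exponent
import Groth.Prelude.Def_PolLaw2

/-!
# Multiplicative homogeneous laws on a finite field extension
-/

open scoped TensorProduct
open Polynomial

namespace Groth.Agent.FieldLaw

universe u

variable {k : Type u} [Field k] {K : Type u} [Field K] [Algebra k K] [FiniteDimensional k K] (q : ℕ) [ExpChar k q]

theorem finrank_separableClosure : Module.finrank k (separableClosure k K) = Field.finSepDegree k K :=
  (Field.finSepDegree_eq k K).symm

/-- Restriction of a law to a subfield. -/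
noncomputable def res (F : K →ₚₗ[k] k) (L : IntermediateField k K) : L →ₚₗ[k] k :=
  PolLaw.precomp F L.val.toLinearMap

theorem Good.res {F : K →ₚₗ[k] k} {d : ℕ} (hF : Good F d) (L : IntermediateField k K) :
    Good (Groth.Agent.FieldLaw.res F L) d := by
  refine ⟨fun S _ _ => ⟨?_, fun x y => ?_⟩, fun S _ _ a z => ?_⟩
  · show F.toFun' S (L.val.toLinearMap.lTensor S 1) = 1
    rw [PolLaw.lTensor_algHom_apply, map_one, (hF.1 S).1]
  · show F.toFun' S (L.val.toLinearMap.lTensor S (x * y)) =
      F.toFun' S (L.val.toLinearMap.lTensor S x) * F.toFun' S (L.val.toLinearMap.lTensor S y)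
    rw [PolLaw.lTensor_algHom_apply, PolLaw.lTensor_algHom_apply, PolLaw.lTensor_algHom_apply, map_mul,
      (hF.1 S).2]
  · show F.toFun' S (L.val.toLinearMap.lTensor S (a • z)) = a ^ d • F.toFun' S (L.val.toLinearMap.lTensor S z)
    rw [PolLaw.lTensor_algHom_apply, PolLaw.lTensor_algHom_apply, map_smul, hF.2]

theorem val_pow_eq_res {F : K →ₚₗ[k] k} {d m : ℕ} (hF : Good F d) (L : IntermediateField k K)
    (hL : ∀ x : K, x ^ q ^ m ∈ L) (S : Type u) [CommRing S] [Algebra k S] (z : S ⊗[k] K) :
    val F S z ^ q ^ m = val (res F L) S (psi q L hL S z) := by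
  rw [← val_pow hF, ← incl_psi q L hL S z]
  rfl

variable {d : ℕ} {F F' : K →ₚₗ[k] k}

theorem law_unique {m : ℕ} (hL : ∀ x : K, x ^ q ^ m ∈ separableClosure k K)
    (hF : Good F d) (hF' : Good F' d) : F = F' := by
  classical
  let Ω := AlgebraicClosure k
  let L := separableClosure k K
  obtain ⟨a, hda, ha⟩ := exists_formula Ω (hF.res L)
  obtain ⟨a', hda', ha'⟩ := exists_formula Ω (hF'.res L)
  have haa : a = a' := Nat.eq_of_mul_eq_mul_left Module.finrank_pos (hda.symm.trans hda')
  refine PolynomialLaw.ext ?_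
  funext S _ _ x
  obtain ⟨n, s, b, rfl⟩ : ∃ (n : ℕ) (s : Fin n → S) (b : Fin n → K), x = ∑ i, s i ⊗ₜ[k] b i := by
    induction x using TensorProduct.induction_on with
    | zero => exact ⟨0, 0, 0, by simp⟩
    | tmul s m => exact ⟨1, fun _ => s, fun _ => m, by simp⟩
    | add x y hx hy =>
      obtain ⟨n, s, b, rfl⟩ := hx
      obtain ⟨l, t, c, rfl⟩ := hy
      refine ⟨n + l, Fin.append s t, Fin.append b c, ?_⟩
      rw [Fin.sum_univ_add]; simp
  let R := MvPolynomial (Fin n) k
  let z : R ⊗[k] K := ∑ i, MvPolynomial.X i ⊗ₜ[k] b i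
  have hz : ∑ i, s i ⊗ₜ[k] b i = (MvPolynomial.aeval s).toLinearMap.rTensor K z := by
    simp [z, LinearMap.rTensor_tmul]
  rw [hz, ← PolynomialLaw.isCompat_apply', ← PolynomialLaw.isCompat_apply']
  congr 1
  refine (Algebra.TensorProduct.rid k R R).injective ?_
  change val F R z = val F' R z
  haveI : ExpChar R q := expChar_of_injective_algebraMap (algebraMap k R).injective q
  refine iterateFrobenius_inj R q m ?_
  simp only [iterateFrobenius_def]
  rw [val_pow_eq_res q hF L hL, val_pow_eq_res q hF' L hL]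
  let φ : R →ₐ[k] MvPolynomial (Fin n) Ω := MvPolynomial.mapAlgHom (Algebra.ofId k Ω)
  refine (MvPolynomial.map_injective (algebraMap k Ω) (algebraMap k Ω).injective : Function.Injective φ) ?_
  change φ (val (res F L) R _) = φ (val (res F' L) R _)
  rw [← val_map (res F L) φ, ← val_map (res F' L) φ, ha, ha', haa]

theorem dvd_of_law {m : ℕ} (hL : ∀ x : K, x ^ q ^ m ∈ separableClosure k K)
    (hmin : ∀ n : ℕ, 0 < n → (∀ x : K, x ^ n ∈ separableClosure k K) → q ^ m ≤ n)
    (hF : Good F d) : Field.finSepDegree k K * q ^ m ∣ d := by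
  classical
  let Ω := AlgebraicClosure k
  let L := separableClosure k K
  obtain ⟨a, hda, ha⟩ := exists_formula Ω (hF.res L)
  rw [hda, finrank_separableClosure]
  refine Nat.mul_dvd_mul_left _ ?_
  by_contra hna
  cases ‹ExpChar k q› with
  | zero => simp at hna
  | prime hp =>
  haveI : ExpChar k q := ExpChar.prime hp
  have ha0 : a ≠ 0 := by rintro rfl; exact hna (dvd_zero _)
  obtain ⟨j, a', hpa', rfl⟩ := Nat.exists_eq_pow_mul_and_not_dvd ha0 q hp.ne_one
  have hjm : j < m := lt_of_not_ge fun h => hna (Dvd.dvd.mul_right (pow_dvd_pow q h) _)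
  obtain ⟨l, hl⟩ := Nat.exists_eq_add_of_lt hjm
  have hm : m = j + (l + 1) := by omega
  have hca : (a' : k) ≠ 0 := fun h => hpa' ((CharP.cast_eq_zero_iff k q a').1 h)
  haveI : ExpChar Ω q := expChar_of_injective_algebraMap (algebraMap k Ω).injective q
  haveI : ExpChar K q := expChar_of_injective_algebraMap (algebraMap k K).injective q
  have key : ∀ x : K, ∃ c : k, Algebra.trace k L ⟨x ^ q ^ m, hL x⟩ = c ^ q := fun x => by
    set w : L := ⟨x ^ q ^ m, hL x⟩ with hw
    haveI : ExpChar (Polynomial Ω) q := expChar_of_injective_algebraMap (algebraMap k (Polynomial Ω)).injective q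
    let φ : (Polynomial k) →ₐ[k] (Polynomial Ω) := Polynomial.mapAlgHom (Algebra.ofId k Ω)
    let z : (Polynomial k) ⊗[k] K := 1 + X ⊗ₜ[k] x
    set Q := val F (Polynomial k) z with hQ
    have hψ : φ.toLinearMap.rTensor L (psi q L hL (Polynomial k) z) =
        1 + ((X : Polynomial Ω) ^ q ^ m) ⊗ₜ[k] w := by
      simp only [z, map_add, psi_one, psi_tmul]
      simp [φ, hw, Algebra.TensorProduct.one_def, LinearMap.rTensor_tmul]
    have hR : φ Q ^ q ^ m =
        (expand Ω (q ^ m) (∏ σ : L →ₐ[k] Ω, (1 + C (σ w) * X) ^ a')) ^ q ^ j := by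
      rw [← map_pow, hQ, val_pow_eq_res q hF L hL, ← val_map, hψ, ha, map_prod, ← Finset.prod_pow]
      refine Finset.prod_congr rfl fun σ _ => ?_
      rw [map_pow, ← pow_mul, mul_comm a']
      congr 1
      rw [map_add, Pi.add_apply, map_one, Pi.one_apply, phi_tmul, Polynomial.algebraMap_eq, map_add, map_one,
        map_mul, expand_C, expand_X, mul_comm]
    have hR' : φ Q ^ q ^ (l + 1) = expand Ω (q ^ m) (∏ σ : L →ₐ[k] Ω, (1 + C (σ w) * X) ^ a') := by
      refine iterateFrobenius_inj (Polynomial Ω) q j ?_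
      simp only [iterateFrobenius_def]
      rw [← hR, ← pow_mul, hm, ← pow_add, add_comm]
    have hc := congrArg (fun P => coeff P (1 * q ^ m)) hR'
    rw [coeff_expand_mul (pow_pos hp.pos m), one_mul, ← map_pow, ← map_iterateFrobenius_expand] at hc
    simp only [φ, Polynomial.coe_mapAlgHom, Polynomial.coeff_map, iterateFrobenius_def] at hc
    have h1 : ∀ (t : Finset (L →ₐ[k] Ω)), (∏ σ ∈ t, (1 + C (σ w) * X) ^ a').coeff 1 = a' * ∑ σ ∈ t, σ w ∧
        (∏ σ ∈ t, (1 + C (σ w) * X) ^ a').coeff 0 = 1 := fun t => by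
      have h2 : ∀ (c : Ω) (b : ℕ), ((1 + C c * X) ^ b).coeff 1 = b * c ∧ ((1 + C c * X) ^ b).coeff 0 = 1 := by
        intro c b
        induction b with
        | zero => simp [coeff_one]
        | succ b ih =>
          refine ⟨?_, ?_⟩
          · rw [pow_succ, coeff_mul, Finset.Nat.sum_antidiagonal_succ]
            simp [ih.1, ih.2, coeff_one]
            ring
          · rw [pow_succ, mul_coeff_zero, ih.2]; simp
      induction t using Finset.induction with
      | empty => simp [coeff_one]
      | insert σ t hσ ih =>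
        rw [Finset.prod_insert hσ, Finset.sum_insert hσ]
        refine ⟨?_, ?_⟩
        · rw [coeff_mul, Finset.Nat.sum_antidiagonal_succ]
          simp [ih.1, ih.2, (h2 (σ w) a').1, (h2 (σ w) a').2]
          ring
        · rw [mul_coeff_zero, ih.2, (h2 (σ w) a').2, one_mul]
    rw [(h1 Finset.univ).1, ← trace_eq_sum_embeddings, ← map_natCast (algebraMap k Ω), ← map_mul] at hc
    refine ⟨(expand k (q ^ (l + 1)) Q).coeff (q ^ m) ^ q ^ l / (a' : k), ?_⟩
    have h3 := (algebraMap k Ω).injective hc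
    have h4 : (a' : k) ^ q = a' := by rw [← frobenius_def, map_natCast]
    rw [div_pow, h4, ← pow_mul, ← pow_succ, h3, mul_div_cancel_left₀ _ hca]
  have hlow : ∀ x : K, x ^ q ^ (m - 1) ∈ L := fun x => by
    haveI : ExpChar L q := expChar_of_injective_algebraMap (algebraMap k L).injective q
    obtain ⟨v, hv⟩ := exists_pow_eq_of_trace (k := k) q m (s := (⟨x ^ q ^ m, hL x⟩ : L)) fun y => by
      obtain ⟨c, hc⟩ := key (x * y)
      refine ⟨c, ?_⟩
      rw [← hc]
      congr 1
      exact Subtype.ext (mul_pow x (y : K) _).symm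
    have hv' : (v : K) ^ q = (x ^ q ^ (m - 1)) ^ q := by
      rw [← pow_mul, ← pow_succ, Nat.sub_add_cancel (by omega)]
      exact congrArg Subtype.val hv
    have h : (v : K) = x ^ q ^ (m - 1) := frobenius_inj K q hv'
    rw [← h]
    exact v.2
  have := hmin _ (pow_pos hp.pos _) hlow
  exact absurd this (not_le.2 (pow_lt_pow_right₀ hp.one_lt (by omega)))

/-- The law attached to a multiple of the quasi-degree. -/
theorem exists_law {m : ℕ} (hL : ∀ x : K, x ^ q ^ m ∈ separableClosure k K)
    (hd : Field.finSepDegree k K * q ^ m ∣ d) : ∃ F : K →ₚₗ[k] k, Good F d := by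
  obtain ⟨b, hb⟩ := hd
  let L := separableClosure k K
  let N := PolLaw.normLaw k L (Module.finrank k L) rfl
  refine ⟨{ toFun' := fun S _ _ z => N.law.toFun' S (psi q L hL S z) ^ b, isCompat' := ?_ }, ?_, ?_⟩
  · intro S _ _ S' _ _ φ
    funext z
    simp only [Function.comp_apply]
    rw [← psi_compat, ← PolynomialLaw.isCompat_apply', PolLaw.rTensor_algHom_apply,
      PolLaw.rTensor_algHom_apply, map_pow]
  · intro S _ _
    refine ⟨?_, fun x y => ?_⟩
    · show N.law.toFun' S (psi q L hL S 1) ^ b = 1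
      rw [psi_one, (N.mult S).1, one_pow]
    · show N.law.toFun' S (psi q L hL S (x * y)) ^ b =
        N.law.toFun' S (psi q L hL S x) ^ b * N.law.toFun' S (psi q L hL S y) ^ b
      rw [psi_mul, (N.mult S).2, mul_pow]
  · intro S _ _ a z
    show N.law.toFun' S (psi q L hL S (a • z)) ^ b = a ^ d • (N.law.toFun' S (psi q L hL S z) ^ b)
    rw [psi_smul, N.homog S, _root_.smul_pow, ← pow_mul, ← pow_mul, hb, ← finrank_separableClosure (k := k) (K := K)]
    congr 2
    ring

end Groth.Agent.FieldLaw
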